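import Cfsg.Agent.H365.Zsig
import Cfsg.Agent.S4422
set_option linter.all false

/-!
# The primitive part of `q ^ e - 1`

The primitive part of `q ^ e - 1` is at least `3 e + 1` with thirteen exceptions.
-/

set_option autoImplicit false

namespace Cfsg.Agent.H588.ZsigPart

open Cfsg.Agent.H365.Zsig Cfsg.Agent.Lib.Zsigmondy

/-- `m` is a primitive divisor of `q ^ e - 1`. -/
def Prim (q e m : ℕ) : Prop := m ∣ q ^ e - 1 ∧ ∀ i : ℕ, 1 ≤ i → i < e → Nat.Coprime m (q ^ i - 1)

theorem exists_prim {q e P : ℕ} (hq : 2 ≤ q) (he : 3 ≤ e) (hP : P.Prime) (hPe : P ∣ e)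
    (hmax : ∀ s : ℕ, s.Prime → s ∣ e → s ≤ P) : ∃ m, Prim q e m ∧ Ph e q ≤ m * P := by
  obtain ⟨m, hm1, hm2, hm3⟩ : ∃ m, m ∣ Ph e q ∧ Ph e q ≤ m * P ∧ (P ∣ m → P ^ 2 ∣ Ph e q) := by
    by_cases h : P ∣ Ph e q
    · obtain ⟨m, hm⟩ := h
      refine ⟨m, ⟨P, by rw [hm]; ring⟩, by rw [hm]; exact (mul_comm _ _).le, ?_⟩
      rintro ⟨l, rfl⟩
      exact ⟨l, by rw [hm]; ring⟩
    · exact ⟨Ph e q, dvd_rfl, Nat.le_mul_of_pos_right _ hP.pos, fun h1 => absurd h1 h⟩
  refine ⟨m, ⟨hm1.trans (Ph_dvd (by omega) (by omega)), ?_⟩, hm2⟩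
  intro i hi hie
  by_contra hcop
  obtain ⟨r, hr, hrm, hri⟩ := Nat.Prime.not_coprime_iff_dvd.1 hcop
  rcases prime_dvd_Ph (by omega) hq hr (hrm.trans hm1) with h | ⟨k, m', h1, h2, h3, h4, h5⟩
  · rw [dvd_pow_sub_one_iff (by omega), h] at hri
    have := Nat.le_of_dvd (by omega) hri
    omega
  · have hrP := eq_max hr h1 h4 h5 hP hPe hmax
    exact sq_not_dvd he hq hr h1 h2 h3 h4 h5 (by rw [hrP] at hrm ⊢; exact hm3 hrm)

/-- If there is no primitive divisor `≥ 3 e + 1` then `Φ_e(q) ≤ (2 e + 1) P`. -/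
theorem Ph_le {q e P : ℕ} (hq : 2 ≤ q) (he : 3 ≤ e) (hP : P.Prime) (hPe : P ∣ e)
    (hmax : ∀ s : ℕ, s.Prime → s ∣ e → s ≤ P) (hno : ¬ ∃ m, Prim q e m ∧ 3 * e + 1 ≤ m) :
    Ph e q ≤ (2 * e + 1) * P := by
  obtain ⟨m, hm, hle⟩ := exists_prim hq he hP hPe hmax
  have h1 := Cfsg.Agent.S4422.result q e m hq (by omega) hm.1 hm.2
  have h2 : m < 3 * e + 1 := by
    by_contra h
    exact hno ⟨m, hm, by omega⟩
  have h3 : m ≤ 2 * e + 1 := by
    rw [Nat.mod_eq_of_lt (by omega : 1 < e)] at h1
    have h4 := Nat.div_add_mod m e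
    rw [h1] at h4
    have h5 : m / e < 3 := by
      by_contra h
      push Not at h
      have : e * 3 ≤ e * (m / e) := Nat.mul_le_mul_left _ h
      omega
    have h6 : e * (m / e) ≤ e * 2 := Nat.mul_le_mul_left _ (by omega)
    omega
  exact hle.trans (Nat.mul_le_mul_right _ h3)

theorem prim_ex {q e m : ℕ} (h1 : m ∣ q ^ e - 1)
    (h2 : ∀ i ∈ Finset.range e, 1 ≤ i → Nat.Coprime m (q ^ i - 1)) (h3 : 3 * e + 1 ≤ m) :
    ∃ m, Prim q e m ∧ 3 * e + 1 ≤ m :=
  ⟨m, ⟨h1, fun i hi hie => h2 i (Finset.mem_range.2 hie) hi⟩, h3⟩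

theorem ex_3_3 : ∃ m, Prim 3 3 m ∧ 3 * 3 + 1 ≤ m := prim_ex (m := 13) (by decide) (by decide) (by decide)
theorem ex_4_4 : ∃ m, Prim 4 4 m ∧ 3 * 4 + 1 ≤ m := prim_ex (m := 17) (by decide) (by decide) (by decide)
theorem ex_2_5 : ∃ m, Prim 2 5 m ∧ 3 * 5 + 1 ≤ m := prim_ex (m := 31) (by decide) (by decide) (by decide)
theorem ex_3_5 : ∃ m, Prim 3 5 m ∧ 3 * 5 + 1 ≤ m := prim_ex (m := 121) (by decide) (by decide) (by decide)
theorem ex_6_6 : ∃ m, Prim 6 6 m ∧ 3 * 6 + 1 ≤ m := prim_ex (m := 31) (by decide) (by decide) (by decide)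
theorem ex_2_7 : ∃ m, Prim 2 7 m ∧ 3 * 7 + 1 ≤ m := prim_ex (m := 127) (by decide) (by decide) (by decide)
theorem ex_3_10 : ∃ m, Prim 3 10 m ∧ 3 * 10 + 1 ≤ m := prim_ex (m := 61) (by decide) (by decide) (by decide)
theorem ex_4_10 : ∃ m, Prim 4 10 m ∧ 3 * 10 + 1 ≤ m := prim_ex (m := 41) (by decide) (by decide) (by decide)
theorem ex_3_12 : ∃ m, Prim 3 12 m ∧ 3 * 12 + 1 ≤ m := prim_ex (m := 73) (by decide) (by decide) (by decide)
theorem ex_2_14 : ∃ m, Prim 2 14 m ∧ 3 * 14 + 1 ≤ m := prim_ex (m := 43) (by decide) (by decide) (by decide)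
theorem ex_2_15 : ∃ m, Prim 2 15 m ∧ 3 * 15 + 1 ≤ m := prim_ex (m := 151) (by decide) (by decide) (by decide)
theorem ex_2_30 : ∃ m, Prim 2 30 m ∧ 3 * 30 + 1 ≤ m := prim_ex (m := 331) (by decide) (by decide) (by decide)

/-! ### numerical inequalities -/

theorem num5 : ∀ x : ℕ, 4 ≤ x → 100 * x ^ 2 + 5 < 2 ^ (3 * x) := by
  intro x hx
  induction x, hx using Nat.le_induction with
  | base => norm_num
  | succ x hx ih =>
    have : 2 ^ (3 * (x + 1)) = 8 * 2 ^ (3 * x) := by rw [mul_add, pow_add]; ring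
    rw [this]; nlinarith

theorem num7 : ∀ x : ℕ, 2 ≤ x → 196 * x ^ 2 + 7 < 2 ^ (5 * x) := by
  intro x hx
  induction x, hx using Nat.le_induction with
  | base => norm_num
  | succ x hx ih =>
    have : 2 ^ (5 * (x + 1)) = 32 * 2 ^ (5 * x) := by rw [mul_add, pow_add]; ring
    rw [this]; nlinarith

theorem num11 : ∀ x : ℕ, 1 ≤ x → 484 * x ^ 2 + 11 < 2 ^ (9 * x) := by
  intro x hx
  induction x, hx using Nat.le_induction with
  | base => norm_num
  | succ x hx ih =>
    have : 2 ^ (9 * (x + 1)) = 512 * 2 ^ (9 * x) := by rw [mul_add, pow_add]; ring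
    rw [this]; nlinarith

theorem num_step {x y z : ℕ} (hx : 1 ≤ x) (hz : 5 ≤ z) (hzy : z ≤ y)
    (h : 4 * x ^ 2 * z ^ 2 + z < 2 ^ ((z - 2) * x)) : 4 * x ^ 2 * y ^ 2 + y < 2 ^ ((y - 2) * x) := by
  induction y, hzy using Nat.le_induction with
  | base => exact h
  | succ y hy ih =>
    have h1 : (y + 1 - 2) * x = (y - 2) * x + x := by
      rw [show y + 1 - 2 = (y - 2) + 1 by omega]; ring
    rw [h1, pow_add]
    have h2 : 2 ≤ 2 ^ x := by
      calc 2 = 2 ^ 1 := rfl
        _ ≤ 2 ^ x := Nat.pow_le_pow_right (by norm_num) hx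
    have h3 : (y + 1) ^ 2 ≤ 2 * y ^ 2 := by nlinarith
    calc 4 * x ^ 2 * (y + 1) ^ 2 + (y + 1) ≤ 4 * x ^ 2 * (2 * y ^ 2) + 2 * y := by
          have := Nat.mul_le_mul_left (4 * x ^ 2) h3
          omega
      _ = (4 * x ^ 2 * y ^ 2 + y) * 2 := by ring
      _ < 2 ^ ((y - 2) * x) * 2 := by omega
      _ ≤ 2 ^ ((y - 2) * x) * 2 ^ x := Nat.mul_le_mul_left _ h2

theorem num_main {x y : ℕ} (h : (5 ≤ y ∧ 4 ≤ x) ∨ (7 ≤ y ∧ 2 ≤ x) ∨ (11 ≤ y ∧ 1 ≤ x)) :
    (4 * y * x ^ 2 + 1) * y < 2 ^ ((y - 2) * x) := by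
  have key : 4 * x ^ 2 * y ^ 2 + y < 2 ^ ((y - 2) * x) := by
    rcases h with ⟨h1, h2⟩ | ⟨h1, h2⟩ | ⟨h1, h2⟩
    · refine num_step (by omega) le_rfl h1 ?_
      have := num5 x h2
      calc 4 * x ^ 2 * 5 ^ 2 + 5 = 100 * x ^ 2 + 5 := by ring
        _ < _ := this
    · refine num_step (by omega) (by norm_num) h1 ?_
      have := num7 x h2
      calc 4 * x ^ 2 * 7 ^ 2 + 7 = 196 * x ^ 2 + 7 := by ring
        _ < _ := this
    · refine num_step (by omega) (by norm_num) h1 ?_
      have := num11 x h2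
      calc 4 * x ^ 2 * 11 ^ 2 + 11 = 484 * x ^ 2 + 11 := by ring
        _ < _ := this
  calc (4 * y * x ^ 2 + 1) * y = 4 * x ^ 2 * y ^ 2 + y := by ring
    _ < _ := key

/-- the exceptional pairs -/
def Exc (q e : ℕ) : Prop :=
  (q, e) ∈ [(2, 6), (2, 4), (2, 10), (2, 12), (2, 18), (3, 4), (3, 6), (5, 6), (2, 3), (2, 8), (2, 20), (4, 3), (4, 6)]

/-! ### `P = 2` -/

theorem case_two {q e : ℕ} (hq : 2 ≤ q) (he : 3 ≤ e) (k : ℕ) (hek : e = 2 ^ (k + 1))
    (hle : Ph e q ≤ (2 * e + 1) * 2) (hE : ¬ Exc q e) : ∃ m, Prim q e m ∧ 3 * e + 1 ≤ m := by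
  rw [hek, Ph_two hq] at hle
  match k, hek, hle with
  | 0, hek, _ => simp at hek; omega
  | 1, hek, hle =>
    norm_num at hle hek
    subst hek
    have : q ≤ 4 := by nlinarith
    interval_cases q
    · exact absurd (by simp [Exc]) hE
    · exact absurd (by simp [Exc]) hE
    · exact ex_4_4
  | 2, hek, hle =>
    norm_num at hle hek
    subst hek
    have hq3 : q < 3 := by
      by_contra hlt
      push Not at hlt
      have : 3 ^ 4 ≤ q ^ 4 := Nat.pow_le_pow_left hlt 4
      norm_num at this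
      omega
    interval_cases q
    exact absurd (by simp [Exc]) hE
  | k + 3, _, hle =>
    exfalso
    have h8 : 8 ≤ 2 ^ (k + 3) := by
      calc 8 = 2 ^ 3 := rfl
        _ ≤ _ := Nat.pow_le_pow_right (by norm_num) (by omega)
    have h9 : (2 : ℕ) ^ (k + 3 + 1) = 2 * 2 ^ (k + 3) := by ring
    rw [h9] at hle
    generalize 2 ^ (k + 3) = u at hle h8
    have h10 : 2 ^ u ≤ q ^ u := Nat.pow_le_pow_left hq u
    have h11 : ∀ u : ℕ, 8 ≤ u → 16 * u ≤ 2 ^ u := by
      intro t ht
      induction t, ht using Nat.le_induction with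
      | base => norm_num
      | succ t ht ih => rw [pow_succ]; omega
    have := h11 u h8
    omega

/-! ### `P = 3` -/

theorem Ph_three_odd {q k : ℕ} (hq : 2 ≤ q) :
    Ph (3 ^ (k + 1)) q = (q ^ 3 ^ k) ^ 2 + q ^ 3 ^ k + 1 := by
  have := eval_cyclotomic_pow Nat.prime_three 1 k (q : ℤ)
  rw [one_mul, one_mul, Ph_cast (by omega), Polynomial.cyclotomic_three] at this
  have h : (Ph (3 ^ (k + 1)) q : ℤ) = (((q ^ 3 ^ k) ^ 2 + q ^ 3 ^ k + 1 : ℕ) : ℤ) := by rw [this]; simp
  exact_mod_cast h

theorem case_three_odd {q e : ℕ} (hq : 2 ≤ q) (k : ℕ) (hek : e = 3 ^ (k + 1))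
    (hle : Ph e q ≤ (2 * e + 1) * 3) (hE : ¬ Exc q e) : ∃ m, Prim q e m ∧ 3 * e + 1 ≤ m := by
  rw [hek, Ph_three_odd hq] at hle
  match k, hek, hle with
  | 0, hek, hle =>
    norm_num at hle hek
    subst hek
    have : q ≤ 4 := by nlinarith
    interval_cases q
    · exact absurd (by simp [Exc]) hE
    · exact ex_3_3
    · exact absurd (by simp [Exc]) hE
  | k + 1, _, hle =>
    exfalso
    have h8 : 3 ≤ 3 ^ (k + 1) := by
      calc 3 = 3 ^ 1 := rfl
        _ ≤ _ := Nat.pow_le_pow_right (by norm_num) (by omega)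
    have h9 : (3 : ℕ) ^ (k + 1 + 1) = 3 * 3 ^ (k + 1) := by ring
    rw [h9] at hle
    generalize 3 ^ (k + 1) = u at hle h8
    have h10 : 2 ^ u ≤ q ^ u := Nat.pow_le_pow_left hq u
    have h11 : ∀ u : ℕ, 3 ≤ u → 2 * u + 2 ≤ 2 ^ u := by
      intro t ht
      induction t, ht using Nat.le_induction with
      | base => norm_num
      | succ t ht ih => rw [pow_succ]; omega
    have h12 := h11 u h8
    nlinarith

theorem case_three {q e : ℕ} (hq : 2 ≤ q) (k a : ℕ) (hek : e = 3 ^ (k + 1) * 2 ^ (a + 1))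
    (hle : Ph e q ≤ (2 * e + 1) * 3) (hE : ¬ Exc q e) : ∃ m, Prim q e m ∧ 3 * e + 1 ≤ m := by
  have hP := Ph_three (q := q) (k := k) (a := a) hq
  rw [← hek] at hP
  set t := 3 ^ k * 2 ^ a with ht
  have hn6 : e = 6 * t := by rw [hek, ht]; ring
  have ht1 : 1 ≤ t := Nat.mul_pos (by positivity) (by positivity)
  clear_value t
  subst hn6
  rcases (by omega : t = 1 ∨ t = 2 ∨ t = 3 ∨ 4 ≤ t) with h | h | h | h
  · subst h
    rw [pow_one] at hP
    have : q ≤ 6 := by
      by_contra hlt
      push Not at hlt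
      nlinarith
    interval_cases q
    · exact absurd (by simp [Exc]) hE
    · exact absurd (by simp [Exc]) hE
    · exact absurd (by simp [Exc]) hE
    · exact absurd (by simp [Exc]) hE
    · exact ex_6_6
  · subst h
    have : q < 4 := by
      by_contra hlt
      push Not at hlt
      have : 16 ≤ q ^ 2 := by nlinarith
      nlinarith
    interval_cases q
    · exact absurd (by simp [Exc]) hE
    · exact ex_3_12
  · subst h
    have : q < 3 := by
      by_contra hlt
      push Not at hlt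
      have : 27 ≤ q ^ 3 := by
        calc 27 = 3 ^ 3 := rfl
          _ ≤ q ^ 3 := Nat.pow_le_pow_left hlt 3
      nlinarith
    interval_cases q
    exact absurd (by simp [Exc]) hE
  · exfalso
    have h10 : 2 ^ t ≤ q ^ t := Nat.pow_le_pow_left hq t
    have h11 := two_pow_ge t h
    nlinarith

/-! ### `P ≥ 5` -/

theorem case_ge_five {q e : ℕ} (hq : 2 ≤ q) (P k m : ℕ) (hP : P.Prime) (hP5 : 5 ≤ P) (hek : e = P ^ (k + 1) * m)
    (hm0 : m ≠ 0) (hm : ¬ P ∣ m) (hle : Ph e q ≤ (2 * e + 1) * P) (hE : ¬ Exc q e) :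
    ∃ m, Prim q e m ∧ 3 * e + 1 ≤ m := by
  have hge := Ph_ge (k := k) hq hP (by omega) hm
  rw [← hek] at hge
  have hme := le_two_mul_totient_sq (Nat.pos_of_ne_zero hm0)
  have he1 : 1 ≤ m.totient := Nat.totient_pos.2 (Nat.pos_of_ne_zero hm0)
  have ht1 : 1 ≤ P ^ k := Nat.one_le_pow _ _ hP.pos
  have hx1 : 1 ≤ P ^ k * m.totient := Nat.mul_pos ht1 he1
  by_cases hc : (5 ≤ P ∧ 4 ≤ P ^ k * m.totient) ∨ (7 ≤ P ∧ 2 ≤ P ^ k * m.totient) ∨ (11 ≤ P ∧ 1 ≤ P ^ k * m.totient)
  · exfalso
    have hmain := num_main hc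
    have h5 : 2 ^ ((P - 2) * (P ^ k * m.totient)) ≤ q ^ (P ^ k * ((P - 2) * m.totient)) := by
      rw [show P ^ k * ((P - 2) * m.totient) = (P - 2) * (P ^ k * m.totient) by ring]
      exact Nat.pow_le_pow_left hq _
    have h6 : e ≤ 2 * P * (P ^ k * m.totient) ^ 2 := by
      rw [hek]
      calc P ^ (k + 1) * m ≤ P ^ (k + 1) * (2 * m.totient ^ 2) := Nat.mul_le_mul_left _ hme
        _ = 2 * P * (P ^ k * m.totient ^ 2) := by ring
        _ ≤ 2 * P * (P ^ k * (P ^ k * m.totient ^ 2)) := by
          apply Nat.mul_le_mul_left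
          exact Nat.le_mul_of_pos_left _ ht1
        _ = _ := by ring
    have h7 : (2 * e + 1) * P ≤ (4 * P * (P ^ k * m.totient) ^ 2 + 1) * P := Nat.mul_le_mul_right _ (by
      have : 4 * P * (P ^ k * m.totient) ^ 2 = 2 * (2 * P * (P ^ k * m.totient) ^ 2) := by ring
      omega)
    omega
  · push Not at hc
    obtain ⟨hc1, hc2, hc3⟩ := hc
    have hx2 := hc1 hP5
    have hP11 : P < 11 := by
      by_contra h
      push Not at h
      have := hc3 h
      omega
    have hP57 : P = 5 ∨ (P = 7 ∧ P ^ k * m.totient = 1) := by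
      rcases (by omega : P = 5 ∨ P = 6 ∨ P = 7 ∨ P = 8 ∨ P = 9 ∨ P = 10) with h | h | h | h | h | h
      · exact Or.inl h
      · subst h; norm_num at hP
      · exact Or.inr ⟨h, by have := hc2 (by omega); omega⟩
      · subst h; norm_num at hP
      · subst h; norm_num at hP
      · subst h; norm_num at hP
    have hk0 : k = 0 := by
      by_contra hk
      have h1 : P ^ 1 ≤ P ^ k := Nat.pow_le_pow_right hP.pos (by omega)
      have h2 : P ^ k ≤ P ^ k * m.totient := Nat.le_mul_of_pos_right _ he1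
      rw [pow_one] at h1
      omega
    subst hk0
    simp only [pow_zero, one_mul, zero_add, pow_one] at *
    have hm12 : m.totient = 1 → m = 1 ∨ m = 2 := fun h => Nat.totient_eq_one_iff.1 h
    rcases hP57 with rfl | ⟨rfl, hx⟩
    · have hphi3 : m.totient ≠ 3 := by
        intro h3
        have hev : Even m.totient := by
          apply Nat.totient_even
          by_contra hlt
          have : m ≤ 2 := by omega
          interval_cases m <;> simp at h3
        rw [h3] at hev
        exact absurd hev (by decide)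
      rcases (by omega : m.totient = 1 ∨ m.totient = 2) with he | he
      · rcases hm12 he with rfl | rfl
        · rw [he] at hge
          have h5 : e = 5 := by omega
          subst h5
          have hq3 : q < 4 := by
            by_contra hlt
            push Not at hlt
            have : 64 ≤ q ^ 3 := by
              calc 64 = 4 ^ 3 := rfl
                _ ≤ q ^ 3 := Nat.pow_le_pow_left hlt 3
            norm_num at hge
            omega
          interval_cases q
          · exact ex_2_5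
          · exact ex_3_5
        · rw [he] at hge
          have hn10 : e = 10 := by omega
          subst hn10
          have hq3 : q < 5 := by
            by_contra hlt
            push Not at hlt
            have : 125 ≤ q ^ 3 := by
              calc 125 = 5 ^ 3 := rfl
                _ ≤ q ^ 3 := Nat.pow_le_pow_left hlt 3
            norm_num at hge
            omega
          interval_cases q
          · exact absurd (by simp [Exc]) hE
          · exact ex_3_10
          · exact ex_4_10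
      · rw [he] at hme hge
        have hm8 : m ≤ 8 := by omega
        have hm46 : m = 3 ∨ m = 4 ∨ m = 6 := by
          interval_cases m
          · simp at hm0
          · simp at he
          · simp at he
          · exact Or.inl rfl
          · exact Or.inr (Or.inl rfl)
          · omega
          · exact Or.inr (Or.inr rfl)
          · rw [Nat.totient_prime (by norm_num)] at he; omega
          · rw [show (8 : ℕ) = 2 ^ 3 by norm_num, Nat.totient_prime_pow Nat.prime_two (by norm_num)] at he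
            norm_num at he
        have hq3 : q < 3 := by
          by_contra hlt
          push Not at hlt
          have : 729 ≤ q ^ 6 := by
            calc 729 = 3 ^ 6 := by norm_num
              _ ≤ q ^ 6 := Nat.pow_le_pow_left hlt 6
          norm_num at hge
          omega
        rcases hm46 with rfl | rfl | rfl
        · have h15 : e = 15 := by omega
          subst h15
          interval_cases q
          exact ex_2_15
        · have h20 : e = 20 := by omega
          subst h20
          interval_cases q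
          exact absurd (by simp [Exc]) hE
        · have hn30 : e = 30 := by omega
          subst hn30
          interval_cases q
          exact ex_2_30
    · rw [hx] at hge
      have hq3 : q < 3 := by
        by_contra hlt
        push Not at hlt
        have : 243 ≤ q ^ 5 := by
          calc 243 = 3 ^ 5 := by norm_num
            _ ≤ q ^ 5 := Nat.pow_le_pow_left hlt 5
        norm_num at hge
        rcases hm12 hx with rfl | rfl <;> omega
      rcases hm12 hx with rfl | rfl
      · have h7 : e = 7 := by omega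
        subst h7
        interval_cases q
        exact ex_2_7
      · have h14 : e = 14 := by omega
        subst h14
        interval_cases q
        exact ex_2_14

/-- **The lower bound for the primitive part.** -/
theorem exists_large {q e : ℕ} (hq : 2 ≤ q) (he : 3 ≤ e) (hE : ¬ Exc q e) :
    ∃ m, Prim q e m ∧ 3 * e + 1 ≤ m := by
  by_contra hno
  have hne : e.primeFactors.Nonempty := Nat.nonempty_primeFactors.2 (by omega)
  set P := e.primeFactors.max' hne with hPdef
  have hPmem : P ∈ e.primeFactors := Finset.max'_mem _ _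
  have hP : P.Prime := Nat.prime_of_mem_primeFactors hPmem
  have hPe : P ∣ e := Nat.dvd_of_mem_primeFactors hPmem
  have hmax : ∀ s : ℕ, s.Prime → s ∣ e → s ≤ P := fun s hs hsn =>
    Finset.le_max' _ _ (Nat.mem_primeFactors.2 ⟨hs, hsn, by omega⟩)
  clear_value P
  have hle := Ph_le hq he hP hPe hmax hno
  obtain ⟨k, m, hm, hek⟩ := Nat.exists_eq_pow_mul_and_not_dvd (n := e) (by omega) P hP.ne_one
  have hm0 : m ≠ 0 := by rintro rfl; simp at hm
  obtain ⟨j, rfl⟩ : ∃ j, k = j + 1 := by
    refine Nat.exists_eq_succ_of_ne_zero ?_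
    rintro rfl
    rw [pow_zero, one_mul] at hek
    exact hm (hek ▸ hPe)
  rcases Nat.lt_or_ge P 3 with hP3 | hP3
  · obtain rfl : P = 2 := by have := hP.two_le; omega
    have hm1 : m = 1 := by
      by_contra hne
      obtain ⟨s, hs, hsm⟩ := Nat.exists_prime_and_dvd hne
      have h1 := hmax s hs (hsm.trans (Dvd.intro_left _ hek.symm))
      have : s = 2 := le_antisymm h1 hs.two_le
      exact hm (this ▸ hsm)
    subst hm1
    rw [mul_one] at hek
    exact hno (case_two hq he j hek hle hE)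
  · rcases Nat.lt_or_ge P 5 with hP5 | hP5
    · obtain rfl : P = 3 := by
        rcases (by omega : P = 3 ∨ P = 4) with h | h
        · exact h
        · subst h; norm_num at hP
      have hm2 : m = 2 ^ m.primeFactorsList.length := by
        refine Nat.eq_prime_pow_of_unique_prime_dvd hm0 ?_
        intro s hs hsm
        have h1 := hmax s hs (hsm.trans (Dvd.intro_left _ hek.symm))
        have h2 := hs.two_le
        rcases (by omega : s = 2 ∨ s = 3) with h | h
        · exact h
        · exact absurd (h ▸ hsm) hm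
      rcases Nat.eq_zero_or_pos m.primeFactorsList.length with h0 | h0
      · rw [h0, pow_zero] at hm2
        subst hm2
        rw [mul_one] at hek
        exact hno (case_three_odd hq j hek hle hE)
      · obtain ⟨a, ha⟩ : ∃ a, m.primeFactorsList.length = a + 1 := ⟨m.primeFactorsList.length - 1, by omega⟩
        rw [ha] at hm2
        subst hm2
        exact hno (case_three hq j a hek hle hE)
    · exact hno (case_ge_five hq P j m hP hP5 hek hm0 hm hle hE)

/-! ### the exceptional pairs -/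

theorem le_of_coprime {q e m A B : ℕ} (hAB : q ^ e - 1 = A * B) (hB : 0 < B) (hm : m ∣ q ^ e - 1)
    (hA : Nat.Coprime m A) {C : ℕ} (hC : B ≤ C) : m ≤ C := by
  rw [hAB] at hm
  exact (Nat.le_of_dvd hB (Nat.Coprime.dvd_of_dvd_mul_left hA hm)).trans hC

theorem cop {m N A : ℕ} (h : Nat.Coprime m N) (hA : A ∣ N) : Nat.Coprime m A := Nat.Coprime.coprime_dvd_right hA h

theorem exc_le {q e : ℕ} (hE : Exc q e) (m : ℕ) (hm : m ∣ q ^ e - 1)
    (hcop : ∀ i : ℕ, 1 ≤ i → i < e → Nat.Coprime m (q ^ i - 1)) : m ≤ 2 * e + 1 := by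
  unfold Exc at hE
  simp only [List.mem_cons, Prod.mk.injEq, List.not_mem_nil, or_false] at hE
  rcases hE with h | h | h | h | h | h | h | h | h | h | h | h | h <;> obtain ⟨rfl, rfl⟩ := h
  · -- (2, 6)
    refine le_of_coprime (A := 3 * 3 * 7) (B := 1) (by norm_num) (by norm_num) hm ?_ (by norm_num)
    have h3 := cop (A := 3) (hcop 2 (by norm_num) (by norm_num)) (by norm_num)
    have h7 := cop (A := 7) (hcop 3 (by norm_num) (by norm_num)) (by norm_num)
    exact (h3.mul_right h3).mul_right h7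
  · -- (2, 4)
    refine le_of_coprime (A := 3) (B := 5) (by norm_num) (by norm_num) hm ?_ (by norm_num)
    exact cop (A := 3) (hcop 2 (by norm_num) (by norm_num)) (by norm_num)
  · -- (2, 10)
    refine le_of_coprime (A := 3 * 31) (B := 11) (by norm_num) (by norm_num) hm ?_ (by norm_num)
    have h3 := cop (A := 3) (hcop 2 (by norm_num) (by norm_num)) (by norm_num)
    have h7 := cop (A := 31) (hcop 5 (by norm_num) (by norm_num)) (by norm_num)
    exact h3.mul_right h7
  · -- (2, 12)
    refine le_of_coprime (A := 3 * 7 * 15) (B := 13) (by norm_num) (by norm_num) hm ?_ (by norm_num)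
    have h3 := cop (A := 3) (hcop 2 (by norm_num) (by norm_num)) (by norm_num)
    have h7 := cop (A := 7) (hcop 3 (by norm_num) (by norm_num)) (by norm_num)
    have h15 := cop (A := 15) (hcop 4 (by norm_num) (by norm_num)) (by norm_num)
    exact (h3.mul_right h7).mul_right h15
  · -- (2, 18)
    refine le_of_coprime (A := 3 * 3 * 3 * 511) (B := 19) (by norm_num) (by norm_num) hm ?_ (by norm_num)
    have h3 := cop (A := 3) (hcop 2 (by norm_num) (by norm_num)) (by norm_num)
    have h7 := cop (A := 511) (hcop 9 (by norm_num) (by norm_num)) (by norm_num)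
    exact ((h3.mul_right h3).mul_right h3).mul_right h7
  · -- (3, 4)
    refine le_of_coprime (A := 2 * 8) (B := 5) (by norm_num) (by norm_num) hm ?_ (by norm_num)
    have h3 := cop (A := 2) (hcop 1 (by norm_num) (by norm_num)) (by norm_num)
    have h7 := cop (A := 8) (hcop 2 (by norm_num) (by norm_num)) (by norm_num)
    exact h3.mul_right h7
  · -- (3, 6)
    refine le_of_coprime (A := 2 * 2 * 26) (B := 7) (by norm_num) (by norm_num) hm ?_ (by norm_num)
    have h3 := cop (A := 2) (hcop 1 (by norm_num) (by norm_num)) (by norm_num)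
    have h7 := cop (A := 26) (hcop 3 (by norm_num) (by norm_num)) (by norm_num)
    exact (h3.mul_right h3).mul_right h7
  · -- (5, 6)
    refine le_of_coprime (A := 3 * 6 * 124) (B := 7) (by norm_num) (by norm_num) hm ?_ (by norm_num)
    have h3 := cop (A := 3) (hcop 2 (by norm_num) (by norm_num)) (by norm_num)
    have h6 := cop (A := 6) (hcop 2 (by norm_num) (by norm_num)) (by norm_num)
    have h7 := cop (A := 124) (hcop 3 (by norm_num) (by norm_num)) (by norm_num)
    exact (h3.mul_right h6).mul_right h7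
  · -- (2, 3)
    exact Nat.le_of_dvd (by norm_num) (by simpa using hm)
  · -- (2, 8)
    refine le_of_coprime (A := 15) (B := 17) (by norm_num) (by norm_num) hm ?_ (by norm_num)
    exact cop (A := 15) (hcop 4 (by norm_num) (by norm_num)) (by norm_num)
  · -- (2, 20)
    refine le_of_coprime (A := 5 * 5 * 1023) (B := 41) (by norm_num) (by norm_num) hm ?_ (by norm_num)
    have h5 := cop (A := 5) (hcop 4 (by norm_num) (by norm_num)) (by norm_num)
    have h7 := cop (A := 1023) (hcop 10 (by norm_num) (by norm_num)) (by norm_num)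
    exact (h5.mul_right h5).mul_right h7
  · -- (4, 3)
    refine le_of_coprime (A := 3 * 3) (B := 7) (by norm_num) (by norm_num) hm ?_ (by norm_num)
    have h3 := cop (A := 3) (hcop 1 (by norm_num) (by norm_num)) (by norm_num)
    exact h3.mul_right h3
  · -- (4, 6)
    refine le_of_coprime (A := 5 * 63) (B := 13) (by norm_num) (by norm_num) hm ?_ (by norm_num)
    have h3 := cop (A := 5) (hcop 2 (by norm_num) (by norm_num)) (by norm_num)
    have h7 := cop (A := 63) (hcop 3 (by norm_num) (by norm_num)) (by norm_num)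
    exact h3.mul_right h7

end Cfsg.Agent.H588.ZsigPart
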